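import Cfsg.Agent.H767.S44.Code
import Cfsg.Agent.H240.Sp44.Main
import Cfsg.Agent.H210.TC.Row

/-!
# S2464, S2452, S4173: the row `PSp₄(4)` (helper767)

* `row3_psp_two_four` : `H210.TC.Row3 (PSp 2 F)`, `|F| = 4`: two classes of elements of order 17.
-/

set_option autoImplicit false

namespace Cfsg.Agent.H767.S44

open Matrix Cfsg.Agent.H240.Sp44

section

variable {F : Type*} [Field F] {w : F} (hw : w * w = w + 1) (h2 : (2 : F) = 0)

include hw h2

theorem sp_mem {c : ℕ} (h : spc c = true) : Dm w c ∈ symplecticGroup (Fin 2) F := by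
  have := congrArg (Dm w) (Nat.eq_of_beq_eq_true h)
  rw [Dm_mul hw h2, Dm_mul hw h2, Dm_tr, Dm_jc h2] at this
  exact SymplecticGroup.mem_iff.2 this

/-- the element of a code -/
def el {c : ℕ} (h : spc c = true) : symplecticGroup (Fin 2) F := ⟨Dm w c, sp_mem hw h2 h⟩

theorem coe_inv {c : ℕ} (h : spc c = true) :
    (((el hw h2 h)⁻¹ : symplecticGroup (Fin 2) F) : Matrix (Fin 2 ⊕ Fin 2) (Fin 2 ⊕ Fin 2) F) = Dm w (iv c) := by
  have hJ : -(Matrix.J (Fin 2) F) = Matrix.J (Fin 2) F := by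
    have h1 : (-1 : F) = 1 := by linear_combination -h2
    calc -(Matrix.J (Fin 2) F) = (-1 : F) • Matrix.J (Fin 2) F := by rw [neg_one_smul]
      _ = Matrix.J (Fin 2) F := by rw [h1, one_smul]
  unfold iv
  rw [SymplecticGroup.coe_inv, hJ, Dm_mul hw h2, Dm_mul hw h2, Dm_tr, Dm_jc h2]
  rfl

theorem coe_cj {u x : ℕ} (hu : spc u = true) (hx : spc x = true) :
    ((el hw h2 hu * el hw h2 hx * (el hw h2 hu)⁻¹ : symplecticGroup (Fin 2) F) :
      Matrix (Fin 2 ⊕ Fin 2) (Fin 2 ⊕ Fin 2) F) = Dm w (cjc u x) := by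
  rw [Submonoid.coe_mul, Submonoid.coe_mul, coe_inv]
  unfold cjc
  rw [Dm_mul hw h2, Dm_mul hw h2]
  rfl

omit hw h2 in
theorem hx : spc xc = true := by
  have h := xy_ok
  simp only [Bool.and_eq_true] at h
  exact h.1.1.1

omit hw h2 in
theorem hy : spc yc = true := by
  have h := xy_ok
  simp only [Bool.and_eq_true] at h
  exact h.1.1.2

omit hw h2 in
theorem px : p17 xc = true := by
  have h := xy_ok
  simp only [Bool.and_eq_true] at h
  exact h.1.2

omit hw h2 in
theorem py : p17 yc = true := by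
  have h := xy_ok
  simp only [Bool.and_eq_true] at h
  exact h.2

/-- **the first table** -/
theorem tabA {r k : ℕ} (hr : r < 4) (hk : k < 64) (hne : nf r k ≠ ic) :
    ∃ u v : symplecticGroup (Fin 2) F, Dm w (nf r k) =
      ((u * el hw h2 hx * u⁻¹ * (v * el hw h2 hy * v⁻¹) : symplecticGroup (Fin 2) F) :
        Matrix (Fin 2 ⊕ Fin 2) (Fin 2 ⊕ Fin 2) F) := by
  have h := of_alb (of_alb chA_all r hr) k hk
  unfold chA at h
  generalize fA (Nat.mul 2 (Nat.add (Nat.mul 64 r) k)) = u at h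
  generalize fA (Nat.add (Nat.mul 2 (Nat.add (Nat.mul 64 r) k)) 1) = v at h
  unfold ckA at h
  rcases hu : spc u with _ | _
  · rw [hu, cond_false] at h; cases h
  rw [hu, cond_true] at h
  rcases hv : spc v with _ | _
  · rw [hv, cond_false] at h; cases h
  rw [hv, cond_true] at h
  rcases hm : Nat.beq (nf r k) ic with _ | _
  · rw [hm, cond_false] at h
    refine ⟨el hw h2 hu, el hw h2 hv, ?_⟩
    rw [Nat.eq_of_beq_eq_true h, Submonoid.coe_mul, coe_cj hw h2 hu hx, coe_cj hw h2 hv hy, Dm_mul hw h2]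
  · exact absurd (Nat.eq_of_beq_eq_true hm) hne

/-- **the second table** -/
theorem tabB {r k : ℕ} (hr : r < 4) (hk : k < 64) :
    ∃ u v z : symplecticGroup (Fin 2) F, Dm w (nf r k) =
      ((u * el hw h2 hx * u⁻¹ * (v * el hw h2 hx * v⁻¹) * (z * el hw h2 hx * z⁻¹) : symplecticGroup (Fin 2) F) :
        Matrix (Fin 2 ⊕ Fin 2) (Fin 2 ⊕ Fin 2) F) := by
  have h := of_alb (of_alb chB_all r hr) k hk
  unfold chB at h
  generalize fB (Nat.mul 3 (Nat.add (Nat.mul 64 r) k)) = u at h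
  generalize fB (Nat.add (Nat.mul 3 (Nat.add (Nat.mul 64 r) k)) 1) = v at h
  generalize fB (Nat.add (Nat.mul 3 (Nat.add (Nat.mul 64 r) k)) 2) = z at h
  unfold ckB at h
  rcases hu : spc u with _ | _
  · rw [hu, cond_false] at h; cases h
  rw [hu, cond_true] at h
  rcases hv : spc v with _ | _
  · rw [hv, cond_false] at h; cases h
  rw [hv, cond_true] at h
  rcases hz : spc z with _ | _
  · rw [hz, cond_false] at h; cases h
  rw [hz, cond_true] at h
  refine ⟨el hw h2 hu, el hw h2 hv, el hw h2 hz, ?_⟩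
  rw [Nat.eq_of_beq_eq_true h, Submonoid.coe_mul, Submonoid.coe_mul, coe_cj hw h2 hu hx, coe_cj hw h2 hv hx,
    coe_cj hw h2 hz hx, Dm_mul hw h2, Dm_mul hw h2]

/-- every element is conjugate to a normal form -/
theorem exists_nf [Finite F] (hsurj : ∀ x : F, ∃ c < 4, x = de w c) (g : symplecticGroup (Fin 2) F) :
    ∃ h : symplecticGroup (Fin 2) F, ∃ r < 4, ∃ k < 64,
      ((h⁻¹ * g * h : symplecticGroup (Fin 2) F) : Matrix (Fin 2 ⊕ Fin 2) (Fin 2 ⊕ Fin 2) F) = Dm w (nf r k) := by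
  have h4 : ∀ x : F, x ^ 4 = x := fun x => by
    obtain ⟨c, hc, rfl⟩ := hsurj x
    have h3 : w ^ 4 = w := by
      linear_combination (w ^ 2 + w + 2) * hw + (1 + w) * h2
    interval_cases c
    · show (0 : F) ^ 4 = 0
      ring
    · show (1 : F) ^ 4 = 1
      ring
    · exact h3
    · show (w + 1) ^ 4 = w + 1
      linear_combination h3 + (2 * w ^ 3 + 3 * w ^ 2 + 2 * w) * h2
  obtain ⟨h, B, r, hr, hB, e⟩ := exists_normal h2 h4 g
  obtain ⟨a, ha, ea⟩ := hsurj (B 0 0)
  obtain ⟨b, hb, eb⟩ := hsurj (B 0 1)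
  obtain ⟨c, hc, ec⟩ := hsurj (B 1 1)
  have hk : a + 4 * b + 16 * c < 64 := by omega
  refine ⟨h, r, hr, a + 4 * b + 16 * c, hk, ?_⟩
  have k0 : Nat.land (a + 4 * b + 16 * c) 3 = a := by rw [dg_zero]; omega
  have k1 : Nat.land (Nat.shiftRight (a + 4 * b + 16 * c) 2) 3 = b := by
    have : Nat.land (Nat.shiftRight (a + 4 * b + 16 * c) 2) 3 = dg (a + 4 * b + 16 * c) 1 := rfl
    rw [this, dg_eq]; omega
  have k2 : Nat.land (Nat.shiftRight (a + 4 * b + 16 * c) 4) 3 = c := by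
    have : Nat.land (Nat.shiftRight (a + 4 * b + 16 * c) 4) 3 = dg (a + 4 * b + 16 * c) 2 := rfl
    rw [this, dg_eq]; omega
  unfold nf
  rw [k0, k1, k2, e, Dm_mul hw h2, Dm_lc w hr, Dm_uc w ha hb hc, ← ea, ← eb, ← ec, ← sym_eq hB, fromBlocks_multiply]
  simp only [Matrix.one_mul, Matrix.mul_one, Matrix.mul_zero, Matrix.zero_mul, add_zero, zero_add]
  rw [add_comm (Rr F r * B) 1]

theorem not_central {c d i j : ℕ} (hc : spc c = true) (hd : spc d = true) (a b : Fin 2 ⊕ Fin 2)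
    (h : dg (mu c d) (4 * ix a + ix b) = i) (h' : dg (mu d c) (4 * ix a + ix b) = j)
    (hij : de w i ≠ de w j) : el hw h2 hc ∉ Subgroup.center (symplecticGroup (Fin 2) F) := by
  intro hcen
  have h1 := Subgroup.mem_center_iff.1 hcen (el hw h2 hd)
  have h3 : Dm w d * Dm w c = Dm w c * Dm w d := congrArg Subtype.val h1
  rw [← Dm_mul hw h2, ← Dm_mul hw h2] at h3
  have h4 := congrFun (congrFun h3 a) b
  rw [Dm_apply, Dm_apply, h, h'] at h4
  exact hij h4.symm

end

section final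

variable {F : Type*} [Field F] [Fintype F]

theorem hd : spc 1074856961 = true := by decide +kernel

/-- **`PSp₄(4)`**: two classes of elements of order 17 -/
theorem row3_psp_two_four (hF : Fintype.card F = 4) : H210.TC.Row3 (Cfsg.PSp 2 F) := by
  have h2 := two_eq_zero hF
  obtain ⟨w, hw, hsurj⟩ := exists_w hF
  let x := el hw h2 hx
  let y := el hw h2 hy
  let π : symplecticGroup (Fin 2) F →* Cfsg.PSp 2 F := QuotientGroup.mk' _
  have hπ : Function.Surjective π := QuotientGroup.mk'_surjective _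
  have hker : ∀ z : symplecticGroup (Fin 2) F, π z = 1 → z ∈ Subgroup.center (symplecticGroup (Fin 2) F) :=
    fun z hz => (QuotientGroup.eq_one_iff z).1 hz
  have hp : Nat.Prime 17 := by norm_num
  have hx17 : orderOf (π x) = 17 := by
    refine orderOf_eq_prime (hp := ⟨hp⟩) ?_ ?_
    · rw [← map_pow]
      have : x ^ 17 = 1 := Subtype.ext (pow_of_p17 hw h2 px)
      rw [this, map_one]
    · intro h
      exact not_central (i := 0) (j := 1) hw h2 hx hd (Sum.inr 0) (Sum.inl 1) (by decide +kernel) (by decide +kernel)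
        zero_ne_one (hker _ h)
  have hy17 : orderOf (π y) = 17 := by
    refine orderOf_eq_prime (hp := ⟨hp⟩) ?_ ?_
    · rw [← map_pow]
      have : y ^ 17 = 1 := Subtype.ext (pow_of_p17 hw h2 py)
      rw [this, map_one]
    · intro h
      exact not_central (i := 1) (j := 0) hw h2 hy hd (Sum.inr 0) (Sum.inl 0) (by decide +kernel) (by decide +kernel)
        one_ne_zero (hker _ h)
  refine ⟨π x, π y, by rw [hx17]; exact hp, by rw [hx17]; decide, by rw [hy17]; exact hp, by rw [hy17]; decide,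
    fun g hg => ?_, fun g => ?_⟩
  · obtain ⟨g, rfl⟩ := hπ g
    have hg1 : g ≠ 1 := by rintro rfl; exact hg (map_one π)
    obtain ⟨h, r, hr, k, hk, e⟩ := exists_nf hw h2 hsurj g
    have hne : nf r k ≠ ic := by
      intro h0
      rw [h0, Dm_ic] at e
      have h1 : h⁻¹ * g * h = 1 := Subtype.ext e
      apply hg1
      calc g = h * (h⁻¹ * g * h) * h⁻¹ := by group
        _ = 1 := by rw [h1]; group
    obtain ⟨u, v, e1⟩ := tabA hw h2 hr hk hne
    have h3 : h⁻¹ * g * h = u * x * u⁻¹ * (v * y * v⁻¹) := Subtype.ext (e.trans e1)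
    refine ⟨π (h * u), π (h * v), ?_⟩
    rw [← map_inv, ← map_inv, ← map_mul, ← map_mul, ← map_mul, ← map_mul, ← map_mul]
    congr 1
    calc g = h * (h⁻¹ * g * h) * h⁻¹ := by group
      _ = _ := by rw [h3]; group
  · obtain ⟨g, rfl⟩ := hπ g
    obtain ⟨h, r, hr, k, hk, e⟩ := exists_nf hw h2 hsurj g
    obtain ⟨u, v, z, e1⟩ := tabB hw h2 hr hk
    have h3 : h⁻¹ * g * h = u * x * u⁻¹ * (v * x * v⁻¹) * (z * x * z⁻¹) := Subtype.ext (e.trans e1)
    refine ⟨π (h * u), π (h * v), π (h * z), ?_⟩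
    rw [← map_inv, ← map_inv, ← map_inv, ← map_mul, ← map_mul, ← map_mul, ← map_mul, ← map_mul, ← map_mul, ← map_mul,
      ← map_mul]
    congr 1
    calc g = h * (h⁻¹ * g * h) * h⁻¹ := by group
      _ = _ := by rw [h3]; group

end final

end Cfsg.Agent.H767.S44
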